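import Cfsg.Agent.H109.Cov.Types
import Cfsg.Agent.H638.G2Iso
import Cfsg.Agent.S2121
import Cfsg.Agent.H386.Rg.AlphaA_m3
import Cfsg.Agent.H884.ElRows_m3
import Cfsg.Agent.H159.SpEnd
import Cfsg.Agent.S5805
import Cfsg.Agent.H803.Rl.Big_m3
import Cfsg.Agent.H826.RgF.Defs_m3
import Cfsg.Agent.H454.Reg.Alt.Affine_m3
import Cfsg.Agent.FastGrp
import Cfsg.Agent.Prune
set_option linter.all false

section
prune_inst 0x7ffffcffbbfa7ddfffff7e7fa6d9cffdfbbadfffefdff9cbffece9ffafdf23160bc5fbaf8de030fe0ed6e23410b87843fbffeeffe26bdc7ffffd5ff41ffbee1ff5f7b50951d79c340fbc2fff83f0778e7f3fffffffffffffffffffffffffffaeffbfffffffff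

-- part: H96/Rg/SixRes
section
set_option linter.all false
open scoped Cfsg.Agent.FastGrp

/-!
# S3691-M3: the residual subgroups of `Sp_6(q)`, `q` even (helper96)

* `card_dvd_aut` : in characteristic two the order of a residual subgroup divides `|Aut T|`
* `aut_g2` : `|Aut G₂(q)|` divides `q ^ 6 (q ^ 2 - 1) (q ^ 6 - 1) f`
* `res_le` : `q = 2 ^ f ≥ 16`: the 2-part of a residual subgroup of `Sp_6(q)` is at most `2 ^ (6 f) f₂`
-/

set_option autoImplicit false

namespace Cfsg.Agent.H96.Rg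

open Cfsg Cfsg.Geo Module
open Cfsg.Agent.H753 (conjNormal_injective)
open Cfsg.Agent.H109.Cov (L06)
open scoped MatrixGroups Matrix

universe u

/-- **The order divides `|Aut T|`** (characteristic two). -/
theorem card_dvd_aut {F : Type u} [Field F] [Finite F] (h2 : (2 : F) = 0) {m : ℕ} (hm : 1 ≤ m)
    {H P : Subgroup (GL (Fin m ⊕ Fin m) F)} (hle : H ≤ spGL m F) (hc : IsResidualCore H P) :
    Nat.card H ∣ Nat.card (MulAut (P ⧸ (scalars (Fin m ⊕ Fin m) F).subgroupOf P)) := by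
  classical
  have hneg : (-1 : GL (Fin m ⊕ Fin m) F) = 1 := by
    apply Units.ext
    have h3 : (-1 : F) = 1 := by
      rw [neg_eq_iff_add_eq_zero, one_add_one_eq_two, h2]
    rw [Units.val_neg, Units.val_one]
    ext i j
    rw [Matrix.neg_apply, Matrix.one_apply]
    split_ifs
    · exact h3
    · exact neg_zero
  set Z : Subgroup H := (scalars (Fin m ⊕ Fin m) F).subgroupOf H with hZ
  have hZn : Z.Normal := inferInstance
  have hPn : (P.subgroupOf H).Normal := ⟨fun x hx g => hc.normal g g.2 x hx⟩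
  set T : Subgroup (H ⧸ Z) := (P.subgroupOf H).map (QuotientGroup.mk' Z) with hT
  have hTn : T.Normal := hPn.map _ (QuotientGroup.mk'_surjective Z)
  have hZ1 : Nat.card Z = 1 := by
    rw [Subgroup.card_eq_one, Subgroup.eq_bot_iff_forall]
    intro z hz
    rcases H914.S6.scalar_cases hm (hle z.2) hz with h | h
    · exact Subtype.ext h
    · exact Subtype.ext (h.trans hneg)
  have hcent : Subgroup.centralizer (T : Set (H ⧸ Z)) = ⊥ := by
    rw [eq_bot_iff]
    intro g hg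
    obtain ⟨h, rfl⟩ := QuotientGroup.mk_surjective g
    rw [Subgroup.mem_bot]
    apply (QuotientGroup.eq_one_iff _).2
    refine hc.centralizer_scalar h h.2 ?_
    intro x hx
    obtain ⟨x', hx'⟩ : ∃ x' : H, (x' : GL (Fin m ⊕ Fin m) F) = x := ⟨⟨x, hc.le hx⟩, rfl⟩
    have h1 := Subgroup.mem_centralizer_iff.1 hg (QuotientGroup.mk' Z x')
      ⟨x', by rw [SetLike.mem_coe, Subgroup.mem_subgroupOf, hx']; exact hx, rfl⟩
    have h2 : QuotientGroup.mk' Z (h * x' * h⁻¹ * x'⁻¹) = 1 := by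
      rw [map_mul, map_mul, map_mul, map_inv, map_inv]
      change (h : H ⧸ Z) * _ * (h : H ⧸ Z)⁻¹ * _ = 1
      rw [← h1]
      group
    rw [QuotientGroup.mk'_apply, QuotientGroup.eq_one_iff, hZ, Subgroup.mem_subgroupOf] at h2
    rw [← hx']
    simpa only [Subgroup.coe_mul, Subgroup.coe_inv] using h2
  obtain ⟨f, hfx⟩ : ∃ f : P →* T, ∀ x : P, (f x : H ⧸ Z) = QuotientGroup.mk' Z ⟨x, hc.le x.2⟩ :=
    ⟨{ toFun := fun x => ⟨QuotientGroup.mk' Z ⟨x, hc.le x.2⟩, ⟨⟨x, hc.le x.2⟩, x.2, rfl⟩⟩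
       map_one' := Subtype.ext rfl
       map_mul' := fun x y => Subtype.ext rfl }, fun x => rfl⟩
  have hf : Function.Surjective f := by
    rintro ⟨_, ⟨x, hx, rfl⟩⟩
    exact ⟨⟨x, hx⟩, Subtype.ext (hfx _)⟩
  have hker : f.ker = (scalars (Fin m ⊕ Fin m) F).subgroupOf P := by
    ext x
    rw [MonoidHom.mem_ker, Subgroup.mem_subgroupOf, ← Subtype.coe_inj, hfx, QuotientGroup.mk'_apply,
      Subgroup.coe_one, QuotientGroup.eq_one_iff, hZ, Subgroup.mem_subgroupOf]
  have e : T ≃* P ⧸ (scalars (Fin m ⊕ Fin m) F).subgroupOf P :=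
    (QuotientGroup.quotientKerEquivOfSurjective f hf).symm.trans (QuotientGroup.quotientMulEquivOfEq hker)
  have hfin : Finite (GL (Fin m ⊕ Fin m) F) := inferInstance
  have h1 : Nat.card (H ⧸ Z) ∣ Nat.card (MulAut T) :=
    Subgroup.card_dvd_of_injective _ (conjNormal_injective T hcent)
  rw [Nat.card_congr (MulAut.congr e).toEquiv] at h1
  rw [← Subgroup.card_mul_index Z, hZ1, one_mul]
  exact h1

variable {F : Type u} [Field F] [Fintype F]

theorem charP_two {f : ℕ} (hF : Fintype.card F = 2 ^ f) : CharP F 2 := by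
  obtain ⟨p, hp⟩ := CharP.exists F
  have hpp := CharP.char_is_prime F p
  obtain ⟨n, -, hn⟩ := FiniteField.card F p
  have h1 : p ∣ 2 ^ f := by rw [← hF, hn]; exact dvd_pow_self _ n.ne_zero
  have h2 := (Nat.prime_dvd_prime_iff_eq hpp Nat.prime_two).1 (hpp.dvd_of_dvd_pow h1)
  rwa [h2] at hp

/-- `|Aut G₂(q)|` -/
theorem aut_g2 {f : ℕ} (hf : 2 ≤ f) (hF : Fintype.card F = 2 ^ f) :
    Nat.card (MulAut (Lie.G2 F)) ∣ (2 ^ f) ^ 6 * ((2 ^ f) ^ 2 - 1) * ((2 ^ f) ^ 6 - 1) * f := by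
  have hch : CharP F 2 := charP_two hF
  have : Fact (Nat.Prime 2) := ⟨Nat.prime_two⟩
  have h4 : 2 ^ 2 ≤ 2 ^ f := Nat.pow_le_pow_right (by norm_num) hf
  obtain ⟨e⟩ := H638.G2Iso.equiv (F := F)
  rw [Nat.card_congr (MulAut.congr e).toEquiv]
  have h1 : Nat.card (MulAut (Lie.chevG2.group F)) ∣ Nat.card (Lie.chevG2.group F) * Nat.card (Out (Lie.chevG2.group F)) := by
    rw [← Subgroup.card_mul_index (Inn (Lie.chevG2.group F))]
    exact Nat.mul_dvd_mul (Subgroup.card_range_dvd _) dvd_rfl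
  have h2 := Cfsg.Agent.S2121.result (F := F) 2 f hF (by omega)
  rw [if_neg (by norm_num)] at h2
  have h3 : Nat.card F = 2 ^ f := by rw [Nat.card_eq_fintype_card, hF]
  rw [h2, ← Nat.card_congr e.toEquiv, H638.G2Iso.card_G2, h3] at h1
  exact h1

theorem not_two_dvd {f k : ℕ} (hf : 1 ≤ f) (hk : 1 ≤ k) : ¬ 2 ∣ (2 ^ f) ^ k - 1 := by
  intro h
  have h1 : 2 ∣ (2 ^ f) ^ k := dvd_pow (dvd_pow_self 2 (by omega)) (by omega)
  have h2 : 1 ≤ (2 ^ f) ^ k := Nat.one_le_pow _ _ (Nat.pow_pos (by norm_num))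
  omega

theorem sub_ne_zero' {f k : ℕ} (hf : 1 ≤ f) (hk : 1 ≤ k) : (2 ^ f) ^ k - 1 ≠ 0 := fun h =>
  not_two_dvd hf hk (by rw [h]; exact dvd_zero 2)

theorem factorization_g2 {f : ℕ} (hf : 1 ≤ f) :
    ((2 ^ f) ^ 6 * ((2 ^ f) ^ 2 - 1) * ((2 ^ f) ^ 6 - 1) * f).factorization 2 = 6 * f + f.factorization 2 := by
  have h0 : (2 ^ f) ^ 6 ≠ 0 := by positivity
  have n2 := sub_ne_zero' (f := f) (k := 2) hf (by norm_num)
  have n6 := sub_ne_zero' (f := f) (k := 6) hf (by norm_num)
  have e0 : ((2 ^ f) ^ 6).factorization 2 = 6 * f := by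
    rw [← pow_mul, Nat.Prime.factorization_pow Nat.prime_two, Finsupp.single_eq_same, mul_comm]
  have e2 := Nat.factorization_eq_zero_of_not_dvd (not_two_dvd (f := f) (k := 2) hf (by norm_num))
  have e6 := Nat.factorization_eq_zero_of_not_dvd (not_two_dvd (f := f) (k := 6) hf (by norm_num))
  rw [Nat.factorization_mul (Nat.mul_ne_zero (Nat.mul_ne_zero h0 n2) n6) (by omega),
    Nat.factorization_mul (Nat.mul_ne_zero h0 n2) n6, Nat.factorization_mul h0 n2]
  rw [Finsupp.add_apply, Finsupp.add_apply, Finsupp.add_apply, e0, e2, e6, add_zero, add_zero]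

/-- the 2-part of a residual subgroup -/
theorem res_le {f : ℕ} (hf : 4 ≤ f) (hF : Fintype.card F = 2 ^ f) {H : Subgroup (GL (Fin 3 ⊕ Fin 3) F)}
    (hle : H ≤ spGL 3 F) (h : L06 H) : (Nat.card H).factorization 2 ≤ 6 * f + f.factorization 2 := by
  have hch : CharP F 2 := charP_two hF
  have h2 : (2 : F) = 0 := by exact_mod_cast CharP.cast_eq_zero F 2
  obtain ⟨P, p, hc, hp, hcp, hcases⟩ := h
  have hp2 : p = 2 := CharP.eq F hcp hch
  subst hp2
  have h16 : 2 ^ 4 ≤ 2 ^ f := Nat.pow_le_pow_right (by norm_num) hf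
  have hne : ∀ n : ℕ, n < 16 → Fintype.card F ≠ n := by
    intro n hn h3
    rw [hF] at h3
    omega
  have hd := card_dvd_aut h2 (m := 3) (by norm_num) hle hc
  rcases hcases with ⟨-, h3, -⟩ | ⟨-, ⟨h3, -⟩ | ⟨h3, -⟩⟩ | ⟨-, ⟨h3, -⟩ | ⟨h3, -⟩⟩ | ⟨-, h3⟩ | ⟨-, h3 | ⟨h3, -⟩⟩ |
    ⟨-, ⟨h3, -⟩ | ⟨h3, -⟩⟩ | ⟨-, h3⟩ | ⟨⟨e⟩, -, -⟩
  · exact absurd h3 (hne _ (by norm_num))
  · exact absurd h3 (hne _ (by norm_num))
  · exact absurd h3 (hne _ (by norm_num))
  · exact absurd h3 (hne _ (by norm_num))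
  · exact absurd h3 (hne _ (by norm_num))
  · exact absurd h3 (hne _ (by norm_num))
  · exact absurd h3 (hne _ (by norm_num))
  · exact absurd h3 (hne _ (by norm_num))
  · exact absurd h3 (hne _ (by norm_num))
  · exact absurd h3 (hne _ (by norm_num))
  · omega
  · rw [Nat.card_congr (MulAut.congr e).toEquiv] at hd
    have h4 := hd.trans (aut_g2 (by omega) hF)
    rw [← factorization_g2 (by omega : 1 ≤ f)]
    refine (Nat.factorization_le_iff_dvd Nat.card_pos.ne' ?_).2 h4 2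
    exact Nat.mul_ne_zero (Nat.mul_ne_zero (Nat.mul_ne_zero (by positivity) (sub_ne_zero' (by omega) (by norm_num)))
      (sub_ne_zero' (by omega) (by norm_num))) (by omega)

end Cfsg.Agent.H96.Rg
end

-- part: H96/Rg/SixCore
section
prune_inst 0x3004001000000000000582410000400200000000630000202000000d808d4000400620b4b011121084908450390040011000004000000000003400011e00a0808042000200a104240007800004000000000000000000000000000000010000000000000
set_option linter.all false
open scoped Cfsg.Agent.FastGrp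

/-!
# S3691-M3: subgroups of `Sp_6(q)`, `q` even (helper96)

* `not_quad` : a group of isometries of a 6-dimensional quadratic space is not divisible by both `r₆` and `r₃`
* `ovr` : the maximal subgroups of `Sp_6(2 ^ f)`, `f ≥ 4`, of order divisible by `r₆`, `r₃` have 2-part at most `2 ^ (6 f) f₂`
  (hypothesis: the conclusion of S5806)
* `six_even_of` : the statement for a quadratic space
-/

set_option autoImplicit false

namespace Cfsg.Agent.H96.Rg

open Cfsg Cfsg.Geo Module QuadraticMap Cfsg.Agent.LieClassical.OrthCore Cfsg.Agent.H955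
open Cfsg.Agent.H109.Cov (L06)
open Cfsg.Agent.H951 (fx cm)
open Cfsg.Agent.LieClassical.OrthFinite (glEquiv glEquiv_apply)
open Cfsg.Agent.H876 (spToGL)
open scoped MatrixGroups Matrix

universe u v

section quad

variable {F : Type u} [Field F] [Fintype F]

theorem not_quad {ι : Type} [Fintype ι] [DecidableEq ι] {Q : (ι → F) → F} (hQ : IsNondegenerateQuadraticForm Q)
    (hι : Fintype.card ι = 6) {H : Subgroup (GL ι F)} (hH : H ≤ Cfsg.isometryGroup F Q) {r₆ r₃ : ℕ}
    (h6 : H884.El.PP (Nat.card F) 6 r₆) (h3 : H884.El.PP (Nat.card F) 3 r₃) (h6H : r₆ ∣ Nat.card H)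
    (h3H : r₃ ∣ Nat.card H) : False := by
  have hnd := H884.OmegaGL.nondeg_bundle Q hQ
  have hH' : H ≤ Cfsg.isometryGroup F (⇑(H884.OmegaGL.bundle Q hQ)) := hH
  have hdim : finrank F (ι → F) = 6 := by rw [finrank_fintype_fun_eq_card, hι]
  obtain ⟨g, -, hg, -, hg1⟩ := H884.El.exists_elt hH' h6 (by norm_num) h6H
  obtain ⟨k, -, hk, -, hk1⟩ := H884.El.exists_elt hH' h3 (by norm_num) h3H
  obtain ⟨a1, a2⟩ := hg.even_case hnd (H884.El.lin_ne_one hg1) h6 (by decide) (by rw [hdim]; norm_num)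
  obtain ⟨b1, b2, -⟩ := hk.odd_case hnd (H884.El.lin_ne_one hk1) h3 (by decide) (by rw [hdim]; norm_num)
  have e1 : cm (H884.El.lin g) = ⊤ := Submodule.eq_top_of_finrank_eq (by rw [a1, hdim])
  have e2 : cm (H884.El.lin k) = ⊤ := Submodule.eq_top_of_finrank_eq (by rw [b1, hdim])
  rw [e1] at a2
  rw [e2] at b2
  exact a2 b2

end quad

section ovr

variable {F : Type u} [Field F] [Fintype F]

theorem to109 {p f k r : ℕ} (hp : 1 ≤ p) (hfk : 1 ≤ f * k) (h : H884.El.PP p (f * k) r) : H109.Cov.PP p f k r :=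
  ⟨h.prime, fun m => by rw [h.dvd_iff hp, mul_comm], by rw [mul_comm]; exact h.dvd_sub_one hfk, h.not_dvd hfk⟩

/-- similarities of a quadratic form which are isometries of its polar form are isometries -/
theorem sim_le {Q : (Fin 3 ⊕ Fin 3 → F) → F} (hpol : ∀ u v : (Fin 3 ⊕ Fin 3 → F), polar Q u v = sympForm 3 F u v) :
    quadSimilarityGroup Q ⊓ spGL 3 F ≤ Cfsg.isometryGroup F Q := by
  rintro g ⟨⟨c, hc⟩, hg⟩
  rw [H925.mem_iso_iff]
  have h1 : ∀ u v : (Fin 3 ⊕ Fin 3 → F), sympForm 3 F ((g : Matrix (Fin 3 ⊕ Fin 3) (Fin 3 ⊕ Fin 3) F) *ᵥ u)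
      ((g : Matrix (Fin 3 ⊕ Fin 3) (Fin 3 ⊕ Fin 3) F) *ᵥ v) = sympForm 3 F u v := fun u v => hg u v
  have h2 : ∀ u v : (Fin 3 ⊕ Fin 3 → F), (c : F) * sympForm 3 F u v = sympForm 3 F u v := by
    intro u v
    have h3 : polar Q ((g : Matrix (Fin 3 ⊕ Fin 3) (Fin 3 ⊕ Fin 3) F) *ᵥ u)
        ((g : Matrix (Fin 3 ⊕ Fin 3) (Fin 3 ⊕ Fin 3) F) *ᵥ v) = (c : F) * polar Q u v := by
      rw [polar, polar, ← Matrix.mulVec_add, hc, hc, hc]
      ring
    rw [hpol, hpol, h1] at h3
    exact h3.symm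
  obtain ⟨u, v, huv⟩ : ∃ u v : (Fin 3 ⊕ Fin 3 → F), sympForm 3 F u v ≠ 0 := by
    by_contra hcon
    push Not at hcon
    have h3 := (ClassicalGeometry.SympBasic.sympBilin_nondegenerate (m := 3) (F := F)).1 (Pi.single (Sum.inl 0) 1)
      (fun v => hcon _ v)
    have h4 := congrFun h3 (Sum.inl 0)
    rw [Pi.single_eq_same] at h4
    exact one_ne_zero h4
  have h3 : (c : F) = 1 := by
    have := h2 u v
    exact mul_right_cancel₀ huv (by rw [this, one_mul])
  intro v
  rw [hc, h3, one_mul]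

/-- **the maximal subgroups** -/
theorem ovr (h06 : ∀ H : Subgroup (GL (Fin 3 ⊕ Fin 3) F), IsMaximalIn (spGL 3 F) H → InSymplecticResidualClass H → L06 H)
    {f r₆ r₃ : ℕ} (hf : 4 ≤ f) (hF : Fintype.card F = 2 ^ f) (h6 : H884.El.PP 2 (f * 6) r₆)
    (h3 : H884.El.PP 2 (f * 3) r₃) {M : Subgroup (GL (Fin 3 ⊕ Fin 3) F)} (hM : IsMaximalIn (spGL 3 F) M)
    (h6M : r₆ ∣ Nat.card M) (h3M : r₃ ∣ Nat.card M) : (Nat.card M).factorization 2 ≤ 6 * f + f.factorization 2 := by
  have hF' : Nat.card F = 2 ^ f := by rw [Nat.card_eq_fintype_card, hF]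
  have hf1 : 1 ≤ f := by omega
  have hr := to109 (by norm_num) (by omega) h6
  have hr6 := hr.lt hf1 (by norm_num)
  have hodd : ¬ Odd (Fintype.card F) := by
    rw [hF, Nat.not_odd_iff_even]
    exact Even.pow_of_ne_zero (by decide) (by omega)
  obtain ⟨x, hxM, hxr, hx1⟩ := H109.Cov.exists_elt hr.prime h6M
  rcases S5805.result M hM with ⟨W, hW0, hts, e⟩ | ⟨W, hW0, -, hW, e⟩ | ⟨-, D, hD, e⟩ | ⟨h, -⟩ |
    ⟨K, hK, -, -, e⟩ | ⟨h, -⟩ | ⟨h, -⟩ | ⟨F₀, r', P, ζ, hr', hc, -, -, e⟩ |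
    ⟨-, Q, hQ, hpol, e⟩ | h
  · exfalso
    rw [e] at hxM
    have h1 := H109.Cov.six_sub hr hf1 hF' hxr hx1 (H109.Cov.inv_of_mem hxM.1) hW0
    have h2 := H109.Cov.finrank_le_of_ts hts
    omega
  · exfalso
    rw [e] at hxM
    have h1 := H109.Cov.six_sub hr hf1 hF' hxr hx1 (H109.Cov.inv_of_mem hxM.1) hW0
    omega
  · exfalso
    rw [e] at h6M
    exact H109.Cov.kill_decomp hr hf1 hF' hD.decomp (by omega) (by norm_num) (H109.Cov.dvd_left h6M)
  · exact absurd h hodd
  · have h1 := factorization_le (p := 2) (f := f) (s := 3) Nat.prime_two hf1 hF' Nat.prime_three (by norm_num) hK rfl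
      (M := M) (by rw [e]; exact inf_le_left)
    omega
  · exact absurd h hodd
  · exact absurd h hodd
  · exfalso
    rw [e] at h6M
    refine H109.Cov.kill_subfield Nat.prime_two hr hf1 hF' hr'.two_le hc P (by norm_num) ?_ (H109.Cov.dvd_left h6M)
    have : Fintype.card (Fin 3 ⊕ Fin 3) = 6 := rfl
    have := hr'.two_le
    omega
  · exfalso
    have h6' : H884.El.PP (Nat.card F) 6 r₆ := by rw [hF']; exact H884.El.PP.of_pow h6 hf1
    have h3' : H884.El.PP (Nat.card F) 3 r₃ := by rw [hF']; exact H884.El.PP.of_pow h3 hf1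
    rw [e] at h6M h3M
    exact not_quad hQ rfl (sim_le hpol) h6' h3' h6M h3M
  · exact res_le hf hF hM.1.le (h06 M hM h)

end ovr

section bridge

variable {F : Type u} [Field F] {m : ℕ}

theorem isMaximalIn_map {H : Subgroup (Matrix.symplecticGroup (Fin m) F)} (hH : IsCoatom H) :
    IsMaximalIn (spGL m F) (H.map (spToGL m F)) := by
  have hle : ∀ L : Subgroup (Matrix.symplecticGroup (Fin m) F), L.map (spToGL m F) ≤ spGL m F := by
    rintro L _ ⟨x, -, rfl⟩
    exact H931.spToGL_mem x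
  have hinj : Function.Injective (spToGL m F) := by
    intro a b h
    apply Subtype.ext
    exact congrArg (fun g : GL (Fin m ⊕ Fin m) F => (g : Matrix (Fin m ⊕ Fin m) (Fin m ⊕ Fin m) F)) h
  constructor
  · refine lt_of_le_of_ne (hle H) ?_
    intro h
    apply hH.1
    rw [← H931.map_spToGL_top] at h
    exact Subgroup.map_injective hinj h
  · intro M h1 h2
    have h3 : (M.comap (spToGL m F)).map (spToGL m F) = M := by
      apply le_antisymm (Subgroup.map_comap_le _ _)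
      intro g hg
      obtain ⟨A, rfl⟩ := H931.exists_spToGL (h2 hg)
      exact ⟨A, hg, rfl⟩
    have h4 : H ≤ M.comap (spToGL m F) := Subgroup.map_le_iff_le_comap.1 h1
    rcases hH.le_iff.1 h4 with h5 | h5
    · right
      rw [← h3, h5, H931.map_spToGL_top]
    · left
      rw [← h3, h5]

end bridge

section abs

variable {F : Type} [Field F] [Fintype F] {V : Type v} [AddCommGroup V] [Module F V] [FiniteDimensional F V]

/-- linear automorphisms as matrices -/
noncomputable def cj {ι : Type} [Fintype ι] [DecidableEq ι] (φ : V ≃ₗ[F] (ι → F)) : (V ≃ₗ[F] V) ≃* GL ι F :=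
  { toFun := fun e => (glEquiv ι F).symm ((φ.symm.trans e).trans φ)
    invFun := fun g => (φ.trans (glEquiv ι F g)).trans φ.symm
    left_inv := fun e => by
      change (φ.trans (glEquiv ι F ((glEquiv ι F).symm ((φ.symm.trans e).trans φ)))).trans φ.symm = e
      rw [MulEquiv.apply_symm_apply]
      apply LinearEquiv.ext
      intro v
      simp
    right_inv := fun g => by
      apply (glEquiv ι F).injective
      change glEquiv ι F ((glEquiv ι F).symm _) = _
      rw [MulEquiv.apply_symm_apply]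
      apply LinearEquiv.ext
      intro v
      simp
    map_mul' := fun a b => by
      rw [← map_mul]
      congr 1
      apply LinearEquiv.ext
      intro v
      change φ (a (b (φ.symm v))) = φ (a (φ.symm (φ (b (φ.symm v)))))
      rw [φ.symm_apply_apply] }

theorem cj_apply {ι : Type} [Fintype ι] [DecidableEq ι] (φ : V ≃ₗ[F] (ι → F)) (e : V ≃ₗ[F] V) (v : ι → F) :
    (cj φ e : Matrix ι ι F) *ᵥ v = φ (e (φ.symm v)) := by
  rw [← glEquiv_apply]
  change glEquiv ι F ((glEquiv ι F).symm ((φ.symm.trans e).trans φ)) v = _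
  rw [MulEquiv.apply_symm_apply]
  rfl

/-- symplectic coordinates in characteristic two -/
theorem exists_coord (h2 : (2 : F) = 0) {Q : QuadraticForm F V} (hQ : Nondeg Q) {n : ℕ} (hV : finrank F V = 2 * n) :
    ∃ φ : V ≃ₗ[F] (Fin n ⊕ Fin n → F), ∀ u v, sympForm n F (φ u) (φ v) = polar Q u v := by
  classical
  have hneg : ∀ x : F, -x = x := by
    intro x
    rw [neg_eq_iff_add_eq_zero, ← two_mul, h2, zero_mul]
  have hA : (polarBilin Q).IsAlt := by
    intro x
    change polar Q x x = 0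
    rw [polar_self', h2, zero_mul]
  have hB : (polarBilin Q).Nondegenerate := by
    refine ⟨fun x hx => hQ x fun y => hx y, fun x hx => hQ x fun y => ?_⟩
    have := hx y
    change polar Q y x = 0 at this
    rw [polar_comm]
    exact this
  obtain ⟨b, hb⟩ := H159.exists_symp_basis (polarBilin Q) hA hB hV
  refine ⟨b.equivFun, fun u v => ?_⟩
  have h1 := LinearMap.BilinForm.apply_eq_dotProduct_toMatrix_mulVec b (polarBilin Q) u v
  rw [hb] at h1
  change _ = polarBilin Q u v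
  rw [h1, Matrix.neg_mulVec, dotProduct_neg, hneg]
  rfl

/-- **M3**, with the conclusion of S5806 as hypothesis -/
theorem six_even_of (h06 : ∀ H : Subgroup (GL (Fin 3 ⊕ Fin 3) F), IsMaximalIn (spGL 3 F) H →
      InSymplecticResidualClass H → L06 H)
    {Q : QuadraticForm F V} (hQ : Nondeg Q) (hV : finrank F V = 6) {f r₆ r₃ : ℕ} (hf : 4 ≤ f)
    (hF : Fintype.card F = 2 ^ f) (h6 : H884.El.PP 2 (f * 6) r₆) (h3 : H884.El.PP 2 (f * 3) r₃)
    {H : Subgroup (V ≃ₗ[F] V)} (hH : ∀ h ∈ H, ∀ u v, polar Q (h u) (h v) = polar Q u v)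
    (h6H : r₆ ∣ Nat.card H) (h3H : r₃ ∣ Nat.card H)
    (hpH : 6 * f + f.factorization 2 < (Nat.card H).factorization 2) {x : V ≃ₗ[F] V}
    (hx : ∀ u v, polar Q (x u) (x v) = polar Q u v) : x ∈ H := by
  classical
  have hch : CharP F 2 := charP_two hF
  have h2 : (2 : F) = 0 := by exact_mod_cast CharP.cast_eq_zero F 2
  obtain ⟨φ, hφ⟩ := exists_coord h2 hQ (n := 3) hV
  have key : ∀ y : V ≃ₗ[F] V, (∀ u v, polar Q (y u) (y v) = polar Q u v) → cj φ y ∈ spGL 3 F := by
    intro y hy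
    rw [H931.mem_spGL_iff]
    intro a b
    rw [cj_apply, cj_apply, hφ, hy, ← hφ, φ.apply_symm_apply, φ.apply_symm_apply]
  have hle : H.map (cj φ).toMonoidHom ≤ spGL 3 F := by
    rintro _ ⟨y, hy, rfl⟩
    exact key y (hH y hy)
  have hcard : Nat.card (H.map (cj φ).toMonoidHom) = Nat.card H := Subgroup.card_map_of_injective (cj φ).injective
  set K : Subgroup (Matrix.symplecticGroup (Fin 3) F) := (H.map (cj φ).toMonoidHom).comap (spToGL 3 F) with hK
  have hKm : K.map (spToGL 3 F) = H.map (cj φ).toMonoidHom := by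
    apply le_antisymm (Subgroup.map_comap_le _ _)
    intro g hg
    obtain ⟨A, rfl⟩ := H931.exists_spToGL (hle hg)
    exact ⟨A, hg, rfl⟩
  have hfin : Finite (Matrix.symplecticGroup (Fin 3) F) := inferInstance
  have hfinGL : Finite (GL (Fin 3 ⊕ Fin 3) F) := inferInstance
  rcases eq_top_or_exists_le_coatom K with htop | ⟨N, hN, hKN⟩
  · have h4 : cj φ x ∈ H.map (cj φ).toMonoidHom := by
      rw [← hKm, htop, H931.map_spToGL_top]
      exact key x hx
    obtain ⟨y, hy, hxy⟩ := h4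
    have : y = x := (cj φ).injective hxy
    rwa [← this]
  · exfalso
    have hmax := isMaximalIn_map hN
    have hHN : H.map (cj φ).toMonoidHom ≤ N.map (spToGL 3 F) := by
      rw [← hKm]
      exact Subgroup.map_mono hKN
    have hdvd : Nat.card H ∣ Nat.card (N.map (spToGL 3 F)) := by
      rw [← hcard]
      exact Subgroup.card_dvd_of_le hHN
    have h4 := ovr h06 hf hF h6 h3 hmax (h6H.trans hdvd) (h3H.trans hdvd)
    have h5 : (Nat.card H).factorization 2 ≤ (Nat.card (N.map (spToGL 3 F))).factorization 2 := by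
      have hne1 : Nat.card H ≠ 0 := by
        rw [← hcard]; exact Nat.card_pos.ne'
      exact (Nat.factorization_le_iff_dvd hne1 Nat.card_pos.ne').2 hdvd 2
    omega

end abs

end Cfsg.Agent.H96.Rg
end

-- part: H826/Rg/Bridge
section
prune_inst 0x200400082200000000009001000004400000000040000000400000090002420000000004800010008000800001000001000010420000000a000000000000000000000080080000000000000004000000000000000000000000000000010000000000000
set_option linter.all false
open scoped Cfsg.Agent.FastGrp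

-- part: H826/Rg/AlphaPlus
section
/-!
# S3691, residual case D+1 (alpha) (helper826)

`false_of_np` : `D` semiregular on the vectors of norm `c`, `Γ` a group of semisimilitudes with `Γ ∩ E Q = D`, transitive on the
vectors of norm `c`, `r` a prime divisor of `|D|` with `ord_r(p) = f m`, `2 ^ 50 ≤ q ^ m`: `D` has no normal `p`-subgroup `≠ 1`.
-/

set_option autoImplicit false
set_option linter.unusedSectionVars false

namespace Cfsg.Agent.H826.Rg

open QuadraticMap Module
open Cfsg.Agent.LieClassical.OrthCore Cfsg.Agent.LieClassical.OrthTrans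
open Cfsg.Agent.ClassicalGeometry.OrthSemi Cfsg.Agent.H449.Reg

universe w

section quot

variable {F : Type*} {V : Type w} [Field F] [AddCommGroup V] [Module F V] {Q : QuadraticForm F V}

/-- the map induced on `V / W` -/
noncomputable def lamF {W : Submodule F V} (M : Gam Q) (x : V ⧸ W) : V ⧸ W := Submodule.Quotient.mk (M.1 (Quotient.out x))

theorem lamF_mk {W : Submodule F V} {M : Gam Q} (hM : ∀ v ∈ W, M.1 v ∈ W) (v : V) :
    lamF M (Submodule.Quotient.mk v : V ⧸ W) = Submodule.Quotient.mk (M.1 v) := by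
  rw [lamF, Submodule.Quotient.eq]
  obtain ⟨σ, c, hS⟩ := M.2
  rw [← hS.sub]
  apply hM
  rw [← Submodule.Quotient.eq]
  exact Quotient.out_eq _

/-- the action on `V / W` of a group of semisimilitudes -/
noncomputable def lam {p : ℕ} (W : Submodule F V) [Module (ZMod p) (V ⧸ W)] (Γ : Subgroup (Gam Q))
    (hΓ : ∀ M ∈ Γ, ∀ v ∈ W, M.1 v ∈ W) : Γ →* ((V ⧸ W) ≃ₗ[ZMod p] (V ⧸ W)) where
  toFun M :=
    { toFun := lamF M.1
      invFun := lamF (M⁻¹ : Γ).1
      map_add' := by
        intro x y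
        obtain ⟨x, rfl⟩ := Submodule.Quotient.mk_surjective _ x
        obtain ⟨y, rfl⟩ := Submodule.Quotient.mk_surjective _ y
        rw [← Submodule.Quotient.mk_add, lamF_mk (hΓ _ M.2), lamF_mk (hΓ _ M.2), lamF_mk (hΓ _ M.2), add_of_mem M.1.2]
        rfl
      map_smul' := by
        intro c x
        let g : (V ⧸ W) →+ (V ⧸ W) := AddMonoidHom.mk' (lamF M.1) (by
          intro x y
          obtain ⟨x, rfl⟩ := Submodule.Quotient.mk_surjective _ x
          obtain ⟨y, rfl⟩ := Submodule.Quotient.mk_surjective _ y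
          rw [← Submodule.Quotient.mk_add, lamF_mk (hΓ _ M.2), lamF_mk (hΓ _ M.2), lamF_mk (hΓ _ M.2), add_of_mem M.1.2]
          rfl)
        exact ZMod.map_smul g c x
      left_inv := by
        intro x
        obtain ⟨x, rfl⟩ := Submodule.Quotient.mk_surjective _ x
        rw [lamF_mk (hΓ _ M.2), lamF_mk (hΓ _ (M⁻¹).2)]
        congr 1
        exact M.1.1.symm_apply_apply x
      right_inv := by
        intro x
        obtain ⟨x, rfl⟩ := Submodule.Quotient.mk_surjective _ x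
        rw [lamF_mk (hΓ _ (M⁻¹).2), lamF_mk (hΓ _ M.2)]
        congr 1
        exact M.1.1.apply_symm_apply x }
  map_one' := by
    ext x
    obtain ⟨x, rfl⟩ := Submodule.Quotient.mk_surjective _ x
    show lamF (1 : Γ).1 (Submodule.Quotient.mk x) = Submodule.Quotient.mk x
    rw [lamF_mk (hΓ _ (1 : Γ).2)]
    rfl
  map_mul' M N := by
    ext x
    obtain ⟨x, rfl⟩ := Submodule.Quotient.mk_surjective _ x
    show lamF (M * N).1 (Submodule.Quotient.mk x) = lamF M.1 (lamF N.1 (Submodule.Quotient.mk x))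
    rw [lamF_mk (hΓ _ (M * N).2), lamF_mk (hΓ _ N.2), lamF_mk (hΓ _ M.2)]
    rfl

theorem lam_mk {p : ℕ} (W : Submodule F V) [Module (ZMod p) (V ⧸ W)] (Γ : Subgroup (Gam Q))
    (hΓ : ∀ M ∈ Γ, ∀ v ∈ W, M.1 v ∈ W) (M : Γ) (v : V) :
    lam (p := p) W Γ hΓ M (Submodule.Quotient.mk v) = Submodule.Quotient.mk (M.1.1 v) := lamF_mk (hΓ _ M.2) v

end quot

section main

variable {F : Type*} {V : Type w} [Field F] [AddCommGroup V] [Module F V] {Q : QuadraticForm F V}
variable {D N : Subgroup (V ≃ₗ[F] V)} {p f m r : ℕ} {c : F} {Γ : Subgroup (Gam Q)}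

/-- a group of semisimilitudes with `Γ ∩ E Q = D`, transitive on the vectors of norm `c` -/
structure GD (Q : QuadraticForm F V) (D : Subgroup (V ≃ₗ[F] V)) (c : F) (Γ : Subgroup (Gam Q)) : Prop where
  good : Good Q
  leE : D ≤ E Q
  mem : ∀ g : ↥(E Q), lg g ∈ Γ ↔ (g : V ≃ₗ[F] V) ∈ D
  trans : ∀ u u', Q u = c → Q u' = c → ∃ M ∈ Γ, M.1 u = u'

/-- conjugation -/
def conjH (M : Gam Q) : (V ≃ₗ[F] V) →* (V ≃ₗ[F] V) where
  toFun := conjLin M
  map_one' := conjLin_one M
  map_mul' := conjLin_mul M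

theorem GD.conj_mem (g : GD Q D c Γ) {M : Gam Q} (hM : M ∈ Γ) {d : V ≃ₗ[F] V} (hd : d ∈ D) : conjLin M d ∈ D := by
  have h1 := conjLin_mem_E M (g.leE hd)
  have h2 : lg ⟨conjLin M d, h1⟩ = M * lg ⟨d, g.leE hd⟩ * M⁻¹ := rfl
  have h3 := (g.mem ⟨conjLin M d, h1⟩).1 (by
    rw [h2]
    exact Γ.mul_mem (Γ.mul_mem hM ((g.mem ⟨d, g.leE hd⟩).2 hd)) (Γ.inv_mem hM))
  exact h3

variable [Finite F] [FiniteDimensional F V]

open LD (AA mem_AA)

/-- `W` is invariant under `Γ` -/
theorem inv_W (h : LD Q D p f m r c) (g : GD Q D c Γ) (hN : NP D p N) : ∀ M ∈ Γ, ∀ v ∈ fxG N, M.1 v ∈ fxG N := by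
  intro M hM v hv
  have hinj : Function.Injective (conjH (M⁻¹)) := by
    rw [injective_iff_map_eq_one]
    intro a ha
    have h1 := congrArg (conjLin M) ha
    change conjLin M (conjLin M⁻¹ a) = conjLin M 1 at h1
    rwa [← conjLin_mul_left, mul_inv_cancel, conjLin_one_left, conjLin_one] at h1
  have hN' : NP D p (N.map (conjH M⁻¹)) := by
    refine ⟨?_, ?_, hN.pgrp.map _, ?_⟩
    · rintro _ ⟨n, hn, rfl⟩
      exact g.conj_mem (Γ.inv_mem hM) (hN.le hn)
    · rintro d hd _ ⟨n, hn, rfl⟩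
      refine ⟨conjLin M d * n * (conjLin M d)⁻¹, hN.norm _ (g.conj_mem hM hd) n hn, ?_⟩
      show conjLin M⁻¹ (conjLin M d * n * (conjLin M d)⁻¹) = d * conjLin M⁻¹ n * d⁻¹
      rw [conjLin_mul, conjLin_mul, conjLin_inv, ← conjLin_mul_left, inv_mul_cancel, conjLin_one_left]
    · intro h1
      apply hN.ne
      rwa [Subgroup.map_eq_bot_iff_of_injective _ hinj] at h1
  rw [h.fxG_eq hN hN'] at hv
  intro n hn
  have h1 := hv _ ⟨n, hn, rfl⟩
  have h2 : M.1⁻¹ (n (M.1 v)) = v := h1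
  rw [Equiv.Perm.inv_eq_iff_eq] at h2
  exact h2.symm.symm

/-- the norm stabiliser -/
def Gc (Γ : Subgroup (Gam Q)) (c : F) : Subgroup Γ where
  carrier := {M | ∀ u, Q u = c ↔ Q (M.1.1 u) = c}
  mul_mem' {a b} ha hb u := (hb u).trans (ha _)
  one_mem' u := Iff.rfl
  inv_mem' {a} ha u := by
    have h1 := ha (a.1.1.symm u)
    rw [Equiv.apply_symm_apply] at h1
    exact h1.symm

theorem Gc_trans (h : LD Q D p f m r c) (g : GD Q D c Γ) (hN : NP D p N) : p ^ (f * (m - 1)) ∣ Nat.card Γ := by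
  have hfV : Finite V := Module.finite_of_finite F
  have hc := h.card_norm hN
  let _ : MulAction (Gc Γ c) {u : V // Q u = c} :=
    { smul := fun M u => ⟨M.1.1.1 u.1, (M.2 u.1).1 u.2⟩
      one_smul := fun u => rfl
      mul_smul := fun a b u => rfl }
  have hne : Nonempty {u : V // Q u = c} := by
    by_contra hcon
    rw [not_nonempty_iff] at hcon
    rw [Nat.card_of_isEmpty] at hc
    have h1 : 0 < (p ^ (f * m) - 1) * p ^ (f * (m - 1)) := by
      apply Nat.mul_pos _ (Nat.pow_pos h.prime.pos)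
      have := Nat.one_lt_pow h.fmpos.ne' h.prime.one_lt
      omega
    omega
  obtain ⟨u0⟩ := hne
  have : MulAction.IsPretransitive (Gc Γ c) {u : V // Q u = c} := by
    refine ⟨fun u u' => ?_⟩
    obtain ⟨M, hM, hMu⟩ := g.trans u.1 u'.1 u.2 u'.2
    obtain ⟨σ, d, hS⟩ := M.2
    have h1 : d * σ c = c := by
      have := hS.form u.1
      rw [hMu, u.2, u'.2] at this
      exact this.symm
    refine ⟨⟨⟨M, hM⟩, fun z => ?_⟩, Subtype.ext hMu⟩
    show Q z = c ↔ Q (M.1 z) = c
    rw [hS.form]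
    constructor
    · intro hz
      rw [hz, h1]
    · intro hz
      rw [← h1] at hz
      have h2 := mul_left_cancel₀ hS.ne hz
      -- `σ (Q z) = σ c'` with `c' = c`
      have h3 : σ (Q z) = σ c := h2
      exact σ.injective h3
  have h1 := MulAction.index_stabilizer_of_transitive (Gc Γ c) u0
  rw [hc] at h1
  have h2 : (MulAction.stabilizer (Gc Γ c) u0).index ∣ Nat.card (Gc Γ c) := Subgroup.index_dvd_card _
  rw [h1] at h2
  exact (Dvd.intro_left _ rfl).trans (h2.trans (Subgroup.card_subgroup_dvd_card _))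

/-- a `p`-element of `Γ` trivial on `V / W` comes from `D` -/
theorem exists_D (h : LD Q D p f m r c) (g : GD Q D c Γ) (hN : NP D p N) {M : Gam Q} (hM : M ∈ Γ)
    (hMW : ∀ v, M.1 v - v ∈ fxG N) {k : ℕ} (hk : M ^ p ^ k = 1) : ∃ a ∈ AA D (fxG N), lg ⟨a.1, g.leE a.2⟩ = M := by
  have := Fact.mk h.prime
  have hchar := h.charP
  obtain ⟨σ, d, hS⟩ := M.2
  have hWt : fxG N ≠ ⊤ := by
    intro h1
    have h2 := h.finrank_fxG hN
    rw [h1, finrank_top, h.dim] at h2
    have := h.hm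
    omega
  obtain ⟨u, hu⟩ : ∃ u, u ∉ fxG N := by
    by_contra hcon
    push Not at hcon
    exact hWt (eq_top_iff.2 fun x _ => hcon x)
  -- linear
  have hσ : σ = RingEquiv.refl F := by
    ext a
    by_contra hne
    apply hu
    have h1 := hMW (a • u)
    rw [hS.smul] at h1
    have h2 := (fxG N).smul_mem (σ a) (hMW u)
    have h3 := (fxG N).sub_mem h2 h1
    have h4 : σ a • (M.1 u - u) - (σ a • M.1 u - a • u) = (a - σ a) • u := by module
    rw [h4] at h3
    have h5 : a - σ a ≠ 0 := fun h6 => hne (sub_eq_zero.1 h6).symm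
    have h6 := (fxG N).smul_mem (a - σ a)⁻¹ h3
    rwa [smul_smul, inv_mul_cancel₀ h5, one_smul] at h6
  subst hσ
  -- isometry
  have hpow : ∀ (n : ℕ) (v : V), Q ((M ^ n).1 v) = d ^ n * Q v := by
    intro n v
    induction n with
    | zero => rw [pow_zero, pow_zero, one_mul]; rfl
    | succ n ih =>
      have h1 : (M ^ (n + 1)).1 v = M.1 ((M ^ n).1 v) := by rw [pow_succ']; rfl
      rw [h1, hS.form, ih, pow_succ]
      show d * (d ^ n * Q v) = _
      ring
  have hd : d = 1 := by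
    obtain ⟨z, hz⟩ : ∃ z, Q z ≠ 0 := by
      by_contra hcon
      push Not at hcon
      apply hu
      have h1 : u = 0 := by
        apply h.nd
        intro y
        have h2 := Q_add (Q := Q) u y
        rw [hcon, hcon, hcon, add_zero, zero_add] at h2
        exact h2.symm
      rw [h1]; exact (fxG N).zero_mem
    have h1 := hpow (p ^ k) z
    rw [hk] at h1
    have h2 : d ^ (p ^ k) = 1 := by
      have h3 : (1 : Gam Q).1 z = z := rfl
      rw [h3] at h1
      have h4 : d ^ p ^ k * Q z = 1 * Q z := by rw [one_mul]; exact h1.symm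
      exact mul_right_cancel₀ hz h4
    have h5 : (d - 1) ^ p ^ k = 0 := by rw [sub_pow_char_pow, h2, one_pow, sub_self]
    exact sub_eq_zero.1 (pow_eq_zero_iff (Nat.pow_pos h.prime.pos).ne' |>.1 h5)
  subst hd
  set a := toL M hS with ha
  have haO : a ∈ O Q := toL_mem M hS
  have hav : ∀ v, a v - v ∈ fxG N := hMW
  have haE : a ∈ E Q := by
    have h1 := mem_closure_of_res h.nd (fxG N) haO hav
    have h2 : Subgroup.closure (genSet Q (fxG N)) ≤ E Q := by
      rw [Subgroup.closure_le]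
      rintro _ (⟨b, hb, hbW, rfl⟩ | ⟨u, w, hu, hw, huU, hwU, rfl⟩)
      · exact absurd (h.sing_fxG hN b hbW) hb
      · exact siegel_mem_E hu hw
    exact h2 h1
  have haM : lg ⟨a, haE⟩ = M := rfl
  have haD : a ∈ D := (g.mem ⟨a, haE⟩).1 (by rw [haM]; exact hM)
  exact ⟨⟨a, haD⟩, hav, rfl⟩

theorem four_lt {n : ℕ} (hn : 17 ≤ n) : n ^ 4 < 2 ^ n := by
  induction n, hn using Nat.le_induction with
  | base => norm_num
  | succ n hn ih =>
    have h1 : (n + 1) ^ 4 ≤ 2 * n ^ 4 := by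
      obtain ⟨k, rfl⟩ := Nat.exists_eq_add_of_le hn
      linarith only [Nat.zero_le (k ^ 3), Nat.zero_le (k ^ 4), _root_.sq_nonneg (↑k : ℤ), _root_.Nat.cast_nonneg (α := ℤ) (k)]
    rw [pow_succ 2 n]
    omega

theorem num_ineq {p f m a : ℕ} (hp : 1 < p) (hm : 4 ≤ m) (hbig : 2 ^ 50 ≤ p ^ (f * m)) (ha : p ^ (f * (m - 1)) ≤ a) :
    (f * m) ^ 2 * p ^ (f * m) < a ^ 2 := by
  have h1 : (f * m) ^ 4 < p ^ (f * m) := by
    rcases Nat.lt_or_ge (f * m) 17 with h | h
    · have h2 : (f * m) ^ 4 ≤ 16 ^ 4 := Nat.pow_le_pow_left (by omega) 4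
      have h3 : (16 : ℕ) ^ 4 < 2 ^ 50 := by norm_num
      omega
    · exact (four_lt h).trans_le (Nat.pow_le_pow_left hp _)
  have h2 : p ^ (f * m) ≤ (p ^ (f * (m - 2))) ^ 2 := by
    rw [← pow_mul]
    apply Nat.pow_le_pow_right (by omega)
    rw [mul_assoc]
    exact Nat.mul_le_mul_left f (by omega)
  have h3 : (f * m) ^ 2 < p ^ (f * (m - 2)) := by
    by_contra hcon
    push Not at hcon
    have h4 := Nat.pow_le_pow_left hcon 2
    have h5 : ((f * m) ^ 2) ^ 2 = (f * m) ^ 4 := by rw [← pow_mul]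
    omega
  have h4 : p ^ (f * (m - 2)) * p ^ (f * m) = (p ^ (f * (m - 1))) ^ 2 := by
    rw [← pow_add, ← pow_mul, ← Nat.mul_add, mul_assoc]
    congr 2
    omega
  calc (f * m) ^ 2 * p ^ (f * m) < p ^ (f * (m - 2)) * p ^ (f * m) := Nat.mul_lt_mul_of_pos_right h3 (by positivity)
    _ = (p ^ (f * (m - 1))) ^ 2 := h4
    _ ≤ a ^ 2 := Nat.pow_le_pow_left ha 2

theorem false_of_np' [Module (ZMod p) (V ⧸ fxG N)] (hMain : H667.HerFin.Main.{w}) (h : LD Q D p f m r c) (hm4 : 4 ≤ m) (g : GD Q D c Γ)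
    (hbig : 2 ^ 50 ≤ p ^ (f * m)) (hN : NP D p N) : False := by
  have := Fact.mk h.prime
  have hfV : Finite V := Module.finite_of_finite F
  have hfE : Finite (V ≃ₗ[F] V) := Finite.of_injective (fun e : V ≃ₗ[F] V => (e : V → V)) DFunLike.coe_injective
  have hchar := h.charP
  have hW := h.finrank_fxG hN
  have hpp := h.pp_fxG hN
  have hsing := h.sing_fxG hN
  have hΓ := inv_W h g hN
  have hpV : ∀ v : V, p • v = 0 := by
    intro v
    rw [← Nat.cast_smul_eq_nsmul F, CharP.cast_eq_zero, zero_smul]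
  have hcardW : Nat.card (fxG N) = p ^ (f * m) := by
    rw [Module.natCard_eq_pow_finrank (K := F) (V := fxG N), h.cardF, hW, ← pow_mul]
  have hcardU : Nat.card (V ⧸ fxG N) = p ^ (f * m) := by
    rw [Module.natCard_eq_pow_finrank (K := F) (V := V ⧸ fxG N), h.cardF]
    have h1 := Submodule.finrank_quotient_add_finrank (fxG N)
    rw [h.dim, hW] at h1
    have h2 : finrank F (V ⧸ fxG N) = m := by omega
    rw [h2, ← pow_mul]
  have hfU : Finite (V ⧸ fxG N) := Finite.of_surjective _ (Submodule.Quotient.mk_surjective _)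
  -- the maps
  let pr : V →+ (V ⧸ fxG N) := (fxG N).mkQ.toAddMonoidHom
  have hpr : ∀ v, pr v = Submodule.Quotient.mk v := fun v => rfl
  have hprs : Function.Surjective pr := Submodule.Quotient.mk_surjective _
  have hprk : ∀ v, v ∈ pr.ker ↔ v ∈ fxG N := by
    intro v
    rw [AddMonoidHom.mem_ker, hpr, Submodule.Quotient.mk_eq_zero]
  let Lam := lam (p := p) (fxG N) Γ hΓ
  have hLam : ∀ (M : Γ) (v : V), Lam M (Submodule.Quotient.mk v) = Submodule.Quotient.mk (M.1.1 v) :=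
    lam_mk (p := p) (fxG N) Γ hΓ
  let κ : D →* Γ :=
    { toFun := fun d => ⟨lg ⟨d.1, g.leE d.2⟩, (g.mem ⟨d.1, g.leE d.2⟩).2 d.2⟩
      map_one' := rfl
      map_mul' := fun _ _ => rfl }
  let τ : D →* ((V ⧸ fxG N) ≃ₗ[ZMod p] (V ⧸ fxG N)) := Lam.comp κ
  have hτ : ∀ (x : D) (v : V), pr (x • v) = τ x (pr v) := by
    intro x v
    exact (hLam (κ x) v).symm
  have hτk : τ.ker = AA D (fxG N) := by
    ext a
    rw [MonoidHom.mem_ker, mem_AA]
    constructor
    · intro ha v
      rw [← Submodule.Quotient.eq]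
      have h1 := hτ a v
      rw [ha] at h1
      exact h1
    · intro ha
      ext x
      obtain ⟨v, rfl⟩ := hprs x
      rw [← hτ a v]
      show (Submodule.Quotient.mk ((a : V ≃ₗ[F] V) v) : V ⧸ fxG N) = Submodule.Quotient.mk v
      rw [Submodule.Quotient.eq]
      exact ha v
  have hker : Nat.card pr.ker = Nat.card (V ⧸ fxG N) := by
    rw [hcardU, ← hcardW]
    exact Nat.card_congr (Equiv.subtypeEquivRight hprk)
  -- norm `c` vectors in the cosets
  obtain ⟨ω, hω⟩ := h.exists_omega hN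
  have hnorm : ∀ u : V, u ∉ fxG N → ∃ u', Q u' = c ∧ (Submodule.Quotient.mk u' : V ⧸ fxG N) = Submodule.Quotient.mk u := by
    intro u hu
    refine ⟨u + (c - Q u) • ω (Submodule.Quotient.mk u), ?_, ?_⟩
    · rw [Q_add, QuadraticMap.map_smul, hsing _ (hω u hu).1, polar_smul_right, (hω u hu).2]
      simp
    · rw [Submodule.Quotient.eq, add_sub_cancel_left]
      exact (fxG N).smul_mem _ (hω u hu).1
  have hne : ∀ x : V ⧸ fxG N, x ≠ 0 → ∃ u', Q u' = c ∧ Submodule.Quotient.mk u' = x := by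
    intro x hx
    obtain ⟨u, rfl⟩ := Submodule.Quotient.mk_surjective _ x
    refine hnorm u fun hu => hx ?_
    rwa [Submodule.Quotient.mk_eq_zero]
  -- the order of `Γ`
  have hfΓ : Finite Γ := inferInstance
  have hfR : Finite Lam.range := Finite.of_surjective Lam.rangeRestrict Lam.rangeRestrict_surjective
  have hcardΓ : Nat.card Lam.ker * Nat.card Lam.range = Nat.card Γ := by
    rw [← Subgroup.index_ker Lam]
    exact Subgroup.card_mul_index _
  have hkerle : p ^ (Nat.card Lam.ker).factorization p ≤ Nat.card (AA D (fxG N)) := by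
    obtain ⟨P⟩ : Nonempty (Sylow p Lam.ker) := inferInstance
    rw [← P.card_eq_multiplicity]
    have hP : ∀ M : P, ∃ a ∈ AA D (fxG N), lg ⟨a.1, g.leE a.2⟩ = (M : Lam.ker).1.1 := by
      intro M
      obtain ⟨k, hk⟩ := P.2 M
      refine exists_D h g hN (M : Lam.ker).1.2 ?_ (k := k) ?_
      · intro v
        rw [← Submodule.Quotient.eq, ← hLam]
        have h1 := (M : Lam.ker).2
        rw [MonoidHom.mem_ker] at h1
        rw [h1]
        rfl
      · have h1 := congrArg (fun z : P => (z : Lam.ker).1.1) hk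
        exact h1
    choose a ha ha' using hP
    refine Nat.card_le_card_of_injective (fun M => (⟨a M, ha M⟩ : AA D (fxG N))) ?_
    intro M M' hMM
    have h1 : a M = a M' := congrArg Subtype.val hMM
    have h2 : (M : Lam.ker).1.1 = (M' : Lam.ker).1.1 := by
      rw [← ha' M, ← ha' M']
      congr 2
      exact congrArg Subtype.val h1
    exact Subtype.ext (Subtype.ext (Subtype.ext h2))
  have hle : p ^ (f * (m - 1)) ≤ Nat.card (AA D (fxG N)) * p ^ (Nat.card Lam.range).factorization p := by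
    have h1 := Gc_trans h g hN
    have h2 : f * (m - 1) ≤ (Nat.card Γ).factorization p :=
      (h.prime.pow_dvd_iff_le_factorization Nat.card_pos.ne').1 h1
    rw [← hcardΓ, Nat.factorization_mul Nat.card_pos.ne' Nat.card_pos.ne', Finsupp.add_apply] at h2
    calc p ^ (f * (m - 1)) ≤ p ^ ((Nat.card Lam.ker).factorization p + (Nat.card Lam.range).factorization p) :=
          Nat.pow_le_pow_right h.prime.pos h2
      _ = p ^ (Nat.card Lam.ker).factorization p * p ^ (Nat.card Lam.range).factorization p := pow_add _ _ _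
      _ ≤ _ := Nat.mul_le_mul_right _ hkerle
  let β : V →+ V →+ F := AddMonoidHom.mk' (fun u => AddMonoidHom.mk' (fun v => polar Q u v) (fun a b => by
    rw [polar_add_right])) (by
      intro a b
      ext v
      show polar Q (a + b) v = polar Q a v + polar Q b v
      rw [polar_add_left])
  have hβ : ∀ u v, β u v = polar Q u v := fun u v => rfl
  refine H386.Rg.alpha hMain (p := p) (n := f * m) hpV hcardU hbig pr hprs τ hτ hker ?_ ?_ ?_ ?_ ?_ Lam.range ?_ ⟨3, ?_⟩
    (-(AddMonoidHom.id F)) β ?_ ?_ ?_ 1 (f * (m - 1)) one_pos ?_ ?_ ?_ h.rprime h.ord h.rD (fun _ => 0) ?_ ?_ ?_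
  · rw [hτk]
    exact h.isPGroup_AA hN
  · intro a ha w hw
    rw [hτk] at ha
    exact h.triv_on hN (h.le a.2) ha w ((hprk w).1 hw)
  · intro a ha ha1 v hv
    rw [hτk] at ha
    exact (hprk v).2 (h.fix_AA hN ha ha1 hv)
  · rw [hτk]
    exact h.AA_ne_bot hN
  · rw [hτk]
    exact h.card_AA_lt hN
  · intro x y hx hy
    obtain ⟨u, hu, rfl⟩ := hne x hx
    obtain ⟨u', hu', rfl⟩ := hne y hy
    obtain ⟨M, hM, hMu⟩ := g.trans u u' hu hu'
    refine ⟨Lam ⟨M, hM⟩, ⟨_, rfl⟩, ?_⟩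
    rw [hLam, hMu]
  · -- the derived series
    have h1 : (derivedSeries Lam.range 3).map Lam.range.subtype = ((derivedSeries Γ 3).map Lam) := by
      rw [← map_derivedSeries_eq Lam.rangeRestrict_surjective 3, Subgroup.map_map]
      rfl
    rw [h1]
    rintro _ ⟨M, hM, rfl⟩
    have h2 : (M : Gam Q) ∈ derivedSeries (Gam Q) 3 := by
      have h3 := map_derivedSeries_le_derivedSeries Γ.subtype 3
      exact h3 ⟨M, hM, rfl⟩
    obtain ⟨a, ha⟩ := derived_le g.good h2
    have haD : (a : V ≃ₗ[F] V) ∈ D := (g.mem a).1 (by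
      have h3 : lg a = (M : Gam Q) := ha
      rw [h3]; exact M.2)
    refine ⟨⟨a, haD⟩, ?_⟩
    show Lam (κ ⟨a, haD⟩) = Lam M
    congr 1
    exact Subtype.ext ha
  · intro x u v
    exact polar_map (h.le x.2) u v
  · intro u hu
    rw [hprk, ← hpp]
    intro w hw
    rw [polarBilin_apply_apply, polar_comm]
    exact hu w ((hprk w).2 hw)
  · intro a ha u v
    rw [hτk] at ha
    show polar Q u ((a : V ≃ₗ[F] V) v - v) = -(polar Q v ((a : V ≃ₗ[F] V) u - u))
    have h1 := ha u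
    have h2 := ha v
    have h3 : polar Q ((a : V ≃ₗ[F] V) u - u) ((a : V ≃ₗ[F] V) v - v) = 0 := by
      rw [← hpp] at h2
      exact h2 _ h1
    have h4 := polar_map (h.le a.2) u v
    rw [polar_sub_left, polar_sub_right, polar_sub_right, h4] at h3
    rw [polar_sub_right, polar_sub_right, polar_comm Q v ((a : V ≃ₗ[F] V) u), polar_comm Q v u]
    linear_combination -h3
  · rw [one_mul]
    exact h.card_dvd hN
  · calc (1 + 1) ^ 3 < 2 ^ 50 := by norm_num
      _ ≤ _ := hbig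
  · rw [hτk]
    exact num_ineq h.prime.one_lt hm4 hbig hle
  · intro x
    exact pr.ker.zero_mem
  · intro x y
    rw [smul_zero, add_zero]
  · intro u hu
    obtain ⟨v, hv, rfl⟩ := hne u hu
    refine ⟨v, rfl, fun x hx => ?_⟩
    rw [add_zero] at hx
    exact Subtype.ext (h.free x x.2 v hv hx)

/-- **D+1, (alpha)** -/
theorem false_of_np (hMain : H667.HerFin.Main.{w}) (h : LD Q D p f m r c) (hm4 : 4 ≤ m) (g : GD Q D c Γ)
    (hbig : 2 ^ 50 ≤ p ^ (f * m)) (hN : NP D p N) : False := by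
  have hchar := h.charP
  have hpU : ∀ x : V ⧸ fxG N, p • x = 0 := by
    intro x
    obtain ⟨x, rfl⟩ := Submodule.Quotient.mk_surjective _ x
    rw [← Submodule.Quotient.mk_smul, ← Nat.cast_smul_eq_nsmul F, CharP.cast_eq_zero, zero_smul, Submodule.Quotient.mk_zero]
  let _ : Module (ZMod p) (V ⧸ fxG N) := AddCommGroup.zmodModule hpU
  exact false_of_np' hMain h hm4 g hbig hN

end main

end Cfsg.Agent.H826.Rg
end

-- part: H826/Rg/Bridge
section
/-!
# S3691: the residual cases with the stabiliser of a nonsingular vector, matrix form (helper826)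

`ResV hI X v`, `Fac T X Y`, `T ≃* PΩ(Q)`, dimension `≥ 7`:
* `mem_preE_iff` : `glEquiv g ∈ preE (eP hG eT) X ↔ g ∈ preG eT X`
* `stab_le` : `preG eT X` contains the whole stabiliser of `v` in `Ω(Q)`
* `semiregG` : `preG eT Y` is semiregular on the vectors `u`, `Q u = Q v`
* `card_dvd_norm` : so its order divides the number of these vectors
* `exists_semi` : `Y` is transitive on these vectors, up to scalars
-/

set_option autoImplicit false
set_option linter.unusedSectionVars false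

namespace Cfsg.Agent.H826.Rg

open QuadraticMap Module Cfsg Cfsg.Geo
open Cfsg.Agent.LieClassical.OrthCore Cfsg.Agent.LieClassical.OrthTrans
open Cfsg.Agent.ClassicalGeometry.OrthSemi Cfsg.Agent.H454.Reg Cfsg.Agent.H449.Reg Cfsg.Agent.H884.El
open Cfsg.Agent.H964.Rg (ResV)
open Cfsg.Agent.AutOrth.Main (oe pe oe_apply pe_mk)
open Cfsg.Agent.LieClassical.OrthFinite (glEquiv)
open scoped MatrixGroups Matrix

universe u v

variable {ι : Type} [Fintype ι] [DecidableEq ι] {F : Type v} [Field F] {Q : QuadraticForm F (ι → F)}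
  {G : Type u} [Group G] {T : Subgroup G} [T.Normal] {hG : Good Q} {eT : T ≃* POmega F (⇑Q)} {X Y : Subgroup G}

theorem glEquiv_oe (x : Omega F (⇑Q)) :
    glEquiv ι F ((x : isometryGroup F (⇑Q)) : GL ι F) = (oe hG x : (ι → F) ≃ₗ[F] (ι → F)) := by
  ext1 v
  rw [oe_apply]
  rfl

theorem eP_symm_mk (x : Omega F (⇑Q)) :
    (eP hG eT).symm (QuotientGroup.mk (oe hG x)) = eT.symm (QuotientGroup.mk x) := by
  rw [MulEquiv.symm_apply_eq]
  show _ = pe hG (eT (eT.symm _))
  rw [eT.apply_symm_apply, pe_mk]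

theorem mem_preE_iff {g : GL ι F} : glEquiv ι F g ∈ preE ((eP hG eT :)) X ↔ g ∈ preG eT X := by
  constructor
  · rintro ⟨hg, h⟩
    obtain ⟨x, hx⟩ := (oe hG).surjective ⟨glEquiv ι F g, hg⟩
    have h1 : ((x : isometryGroup F (⇑Q)) : GL ι F) = g := by
      apply (glEquiv ι F).injective
      rw [glEquiv_oe (hG := hG), hx]
    rw [← h1, mem_preG, ← eP_symm_mk (hG := hG), hx]
    exact h
  · intro h
    obtain ⟨x, rfl, hx⟩ := exists_of_mem_preG h
    have h1 : glEquiv ι F ((x : isometryGroup F (⇑Q)) : GL ι F) ∈ E Q := by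
      rw [glEquiv_oe (hG := hG)]
      exact (oe hG x).2
    refine ⟨h1, ?_⟩
    have h2 : (⟨_, h1⟩ : ↥(E Q)) = oe hG x := Subtype.ext (glEquiv_oe x)
    rw [h2, eP_symm_mk]
    exact hx

theorem mem_preE_iff' {g : (ι → F) ≃ₗ[F] (ι → F)} : g ∈ preE ((eP hG eT :)) X ↔ (glEquiv ι F).symm g ∈ preG eT X := by
  rw [← mem_preE_iff (hG := hG), MulEquiv.apply_symm_apply]

theorem map_preG : (preG eT X).map (glEquiv ι F).toMonoidHom = preE ((eP hG eT :)) X := by
  ext g
  rw [mem_preE_iff']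
  constructor
  · rintro ⟨x, hx, rfl⟩
    show (glEquiv ι F).symm (glEquiv ι F x) ∈ _
    rw [MulEquiv.symm_apply_apply]
    exact hx
  · intro h
    exact ⟨_, h, (glEquiv ι F).apply_symm_apply g⟩

theorem card_preE : Nat.card (preE ((eP hG eT :)) X) = Nat.card (preG eT X) := by
  rw [← map_preG]
  exact Nat.card_congr ((preG eT X).equivMapOfInjective _ (glEquiv ι F).injective).symm.toEquiv

variable {hI : Ind ((eP hG eT :))} {v : ι → F}

theorem sg_le_preE (hR : ResV hI X v) : Sg Q v ≤ preE ((eP hG eT :)) X :=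
  Sg_le fun u w hu hw huv hwv => mem_preE_iff'.2 (hR.sieg u w hu hw huv hwv)

variable [Finite F] [Finite G]

/-- **semiregularity** -/
theorem semiregG (hn : 7 ≤ Fintype.card ι) (hf : Fac T X Y) (hR : ResV hI X v) {g : GL ι F} (hg : g ∈ preG eT Y)
    {u : ι → F} (hu : Q u = Q v) (hgu : (g : Matrix ι ι F) *ᵥ u = u) : g = 1 := by
  have h1 := semireg hG (by rwa [Module.finrank_fintype_fun_eq_card]) hf hR.ne (sg_le_preE hR) (mem_preE_iff.2 hg) hu hgu
  exact (map_eq_one_iff _ (glEquiv ι F).injective).1 h1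

/-- the group `preG eT Y` acts semiregularly on the vectors of norm `Q v` : its order divides their number -/
theorem card_dvd_norm (hn : 7 ≤ Fintype.card ι) (hf : Fac T X Y) (hR : ResV hI X v) :
    Nat.card (preG eT Y) ∣ Nat.card {u : ι → F // Q u = Q v} := by
  let _ : MulAction (preG eT Y) {u : ι → F // Q u = Q v} :=
    { smul := fun g u => ⟨glEquiv ι F g.1 u.1, by
        rw [preE_le_O (e := (eP hG eT :)) (mem_preE_iff.2 g.2)]
        exact u.2⟩
      one_smul := fun u => by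
        apply Subtype.ext
        show glEquiv ι F 1 u.1 = u.1
        rw [map_one]
        rfl
      mul_smul := fun a b u => by
        apply Subtype.ext
        show glEquiv ι F (a.1 * b.1) u.1 = glEquiv ι F a.1 (glEquiv ι F b.1 u.1)
        rw [map_mul]
        rfl }
  have hst : ∀ u : {u : ι → F // Q u = Q v}, MulAction.stabilizer (preG eT Y) u = ⊥ := by
    intro u
    rw [eq_bot_iff]
    intro g hg
    rw [MulAction.mem_stabilizer_iff] at hg
    rw [Subgroup.mem_bot]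
    exact Subtype.ext (semiregG hn hf hR g.2 u.2 (congrArg Subtype.val hg))
  have h1 := MulAction.selfEquivSigmaOrbitsQuotientStabilizer (preG eT Y) {u : ι → F // Q u = Q v}
  have h2 := Nat.card_congr h1
  have := Fintype.ofFinite (Quotient (MulAction.orbitRel (preG eT Y) {u : ι → F // Q u = Q v}))
  rw [h2, Nat.card_sigma]
  refine Finset.dvd_sum fun ω _ => ?_
  rw [hst, Nat.card_congr (QuotientGroup.quotientBot (G := preG eT Y)).toEquiv]

/-! ### the case D+1, (alpha) -/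

theorem gd (hf : Fac T X Y) (hR : ResV hI X v) : GD Q (preE (eP hG eT) Y) (Q v) (Gh (eP hG eT) Y) where
  good := hG
  leE := preE_le_E
  mem := lg_mem_iff hf.cent
  trans := fun _ _ hu hu' => exists_gh hG hI hf hR.ne hR.fix hu hu'

theorem ld (hn : 7 ≤ Fintype.card ι) (hf : Fac T X Y) (hR : ResV hI X v) {p f m r : ℕ} (hp : p.Prime) (hF : Nat.card F = p ^ f)
    (hι : Fintype.card ι = 2 * m) (hr : r.Prime) (hord : orderOf (p : ZMod r) = f * m)
    (hrY : r ∣ Nat.card (preG eT Y)) : LD Q (preE (eP hG eT) Y) p f m r (Q v) where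
  nd := hG.nondeg
  prime := hp
  cardF := hF
  dim := by rw [Module.finrank_fintype_fun_eq_card, hι]
  hm := by omega
  le := preE_le_O
  hc := hR.ne
  free := fun g hg u hu hgu => semireg hG (by rwa [Module.finrank_fintype_fun_eq_card]) hf hR.ne (sg_le_preE hR) hg hu hgu
  rprime := hr
  ord := hord
  rD := by rwa [card_preE]

/-- **F-D+1, (alpha)** : no normal `p`-subgroup `≠ 1` in the preimage of `Y ∩ T` -/
theorem alpha_plus (hMain : H667.HerFin.Main.{v}) (hf : Fac T X Y) (hR : ResV hI X v) {p f m r : ℕ} (hp : p.Prime)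
    (hF : Nat.card F = p ^ f) (hι : Fintype.card ι = 2 * m) (hm : 4 ≤ m) (hbig : 2 ^ 50 ≤ p ^ (f * m)) (hr : r.Prime)
    (hord : orderOf (p : ZMod r) = f * m) (hrY : r ∣ Nat.card (preG eT Y)) {N : Subgroup (GL ι F)} (hN : N ≤ preG eT Y)
    (hNn : ∀ g ∈ preG eT Y, ∀ n ∈ N, g * n * g⁻¹ ∈ N) (hNp : IsPGroup p N) : N = ⊥ := by
  by_contra hne
  refine false_of_np hMain (ld (by omega) hf hR hp hF hι hr hord hrY) hm (gd hf hR) hbig
    (N := N.map (glEquiv ι F).toMonoidHom) ⟨?_, ?_, hNp.map _, ?_⟩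
  · rw [← map_preG]
    exact Subgroup.map_mono hN
  · rintro g hg _ ⟨n, hn, rfl⟩
    refine ⟨(glEquiv ι F).symm g * n * ((glEquiv ι F).symm g)⁻¹, hNn _ (mem_preE_iff'.1 hg) n hn, ?_⟩
    show glEquiv ι F ((glEquiv ι F).symm g * n * ((glEquiv ι F).symm g)⁻¹) = g * glEquiv ι F n * g⁻¹
    rw [map_mul, map_mul, map_inv, MulEquiv.apply_symm_apply]
  · intro h1
    apply hne
    rwa [Subgroup.map_eq_bot_iff_of_injective _ (glEquiv ι F).injective] at h1

end Cfsg.Agent.H826.Rg
end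

private theorem dce_4996da32749b : _root_.True := by
  try have : _root_.True := by simp only [_root_.Cfsg.Agent.H826.Rg.lamF.eq_1]
  exact _root_.True.intro
end

-- part: H826/RgF/Both
section
prune_inst 0x3000005820000000000012600000041200000000430000216001020d888c0380000620b01013021084808450380000000000100000000000000400411c00a080814202822ca104040007800800000000000000000000000000000000000000000000000
set_option linter.all false
open scoped Cfsg.Agent.FastGrp

/-!
# S3691, reduction of the plus type: one factor contains `r_{2m-2}` and `r_{2m-4}` (helper826)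
-/

set_option autoImplicit false
set_option linter.unusedSectionVars false

namespace Cfsg.Agent.H826.RgF

open Module QuadraticMap Cfsg Cfsg.Geo Cfsg.Agent.LieClassical.OrthCore Cfsg.Agent.LieClassical.OrthTrans
  Cfsg.Agent.H454.Reg Cfsg.Agent.H449.Reg Cfsg.Agent.H955 Cfsg.Agent.H954.TSing Cfsg.Agent.H884.El
open Cfsg.Agent.H951 (fx cm Inv)
open Cfsg.Agent.H111.Rg (rstr rstr_apply)
open Cfsg.Agent.H826.Rg (preE mem_preE preE_le_E preE_le_O mem_preE_iff mem_preE_iff' card_preE)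
open Cfsg.Agent.H964.Rg (ResV ResP Cx)
open Cfsg.Agent.LieClassical.OrthFinite (glEquiv)
open scoped MatrixGroups Matrix

universe u

/-- the list lemma for groups with elements of orders `a` and `b`, weak form -/
def LB (F : Type) [Field F] (n a b : ℕ) : Prop :=
  ∀ {V : Type} [AddCommGroup V] [Module F V] [FiniteDimensional F V] {Q : QuadraticForm F V}, Nondeg Q → finrank F V = n →
    ∀ A : Subgroup (V ≃ₗ[F] V), A ≤ O Q → El A a → El A b → Rd A ∨ (∃ s, s.Prime ∧ AExt s A) ∨ E Q ≤ A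

/-- the same, symplectic -/
def LBS (F : Type) [Field F] (n a b : ℕ) : Prop :=
  ∀ {V : Type} [AddCommGroup V] [Module F V] [FiniteDimensional F V] {Q : QuadraticForm F V}, Nondeg Q → finrank F V = n →
    ∀ A : Subgroup (V ≃ₗ[F] V), (∀ h ∈ A, ∀ u v, polar Q (h u) (h v) = polar Q u v) → El A a → El A b →
    Rd A ∨ (∃ s, s.Prime ∧ AExt s A) ∨
    (∀ x : V ≃ₗ[F] V, (∀ u v, polar Q (x u) (x v) = polar Q u v) → x ∈ A) ∨
    (∃ Q' : QuadraticForm F V, (∀ u v, polar Q' u v = polar Q u v) ∧ E Q' ≤ A)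

theorem LO.lb {F : Type} [Field F] {n k a b : ℕ} (h : LO F n k a b) : LB F n a b := by
  intro V _ _ _ Q hQ hn A hA ha hb
  rcases h hQ hn A hA ha hb with h1 | ⟨s, hs, -, h1⟩ | h1
  · exact Or.inl h1
  · exact Or.inr (Or.inl ⟨s, hs, h1⟩)
  · exact Or.inr (Or.inr h1)

theorem LB.symm {F : Type} [Field F] {n a b : ℕ} (h : LB F n a b) : LB F n b a :=
  fun hQ hn A hA ha hb => h hQ hn A hA hb ha

theorem LS.lb {F : Type} [Field F] {n k a b : ℕ} (h : LS F n k a b) : LBS F n a b := by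
  intro V _ _ _ Q hQ hn A hA ha hb
  rcases h hQ hn A hA ha hb with h1 | ⟨s, hs, -, h1⟩ | h1 | h1
  · exact Or.inl h1
  · exact Or.inr (Or.inl ⟨s, hs, h1⟩)
  · exact Or.inr (Or.inr (Or.inl h1))
  · exact Or.inr (Or.inr (Or.inr h1))

theorem LBS.symm {F : Type} [Field F] {n a b : ℕ} (h : LBS F n a b) : LBS F n b a :=
  fun hQ hn A hA ha hb => h hQ hn A hA hb ha

section abs

variable {F : Type} [Field F] [Fintype F] {V : Type} [AddCommGroup V] [Module F V] [FiniteDimensional F V]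
  {Q : QuadraticForm F V} {A : Subgroup (V ≃ₗ[F] V)}

/-- `r_{2m-2}` and `r_{2m-4}` in an irreducible group: no quadratic field -/
theorem not_two' (hQ : Nondeg Q) (hA : ∀ h ∈ A, ∀ u v, polar Q (h u) (h v) = polar Q u v) {m r2 r4 : ℕ} (hm : 5 ≤ m)
    (hn : finrank F V ≤ 2 * m) (hr2 : PP (Nat.card F) (2 * m - 2) r2) (hr4 : PP (Nat.card F) (2 * m - 4) r4)
    (h2 : r2 ∣ Nat.card A) (h4 : r4 ∣ Nat.card A) (hrd : ¬ Rd A) (hK : AExt 2 A) : False := by
  refine H522.Rg.sp_not_two hQ hA hr2 hr4 (by omega) (by omega) (fun W hW => ?_) ⟨m - 1, by omega⟩ ⟨m - 2, by omega⟩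
    (by omega) (by omega) ⟨m - 2, by omega⟩ h2 h4 hK
  by_contra hcon
  push Not at hcon
  exact hrd ⟨W, hcon.1, hcon.2, hW⟩

theorem nondeg_line' {v : V} (h2 : (2 : F) ≠ 0) (hv : Q v ≠ 0) : Nondeg (res Q (F ∙ v)) := by
  rw [nondeg_res_iff]
  intro x hx hxy
  obtain ⟨c, rfl⟩ := Submodule.mem_span_singleton.1 hx
  have h4 := hxy v (Submodule.mem_span_singleton_self v)
  rw [polar_smul_left, polar_self', smul_eq_mul] at h4
  rcases mul_eq_zero.1 h4 with h5 | h5
  · rw [h5, zero_smul]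
  · exact absurd h5 (mul_ne_zero h2 hv)

/-- the field degree is two -/
theorem s_two {s r : ℕ} (hs : s.Prime) (hK : AExt s A) {x : V ≃ₗ[F] V} (hx : x ∈ A) (hr : r.Prime) (hxr : x ^ r = 1)
    (hrs : r ≠ s) (hd : finrank F (fx (x : Module.End F V)) = 2) : s = 2 := by
  have h := hK.dvd_fx hx hr hxr hrs
  rw [hd] at h
  exact (Nat.prime_dvd_prime_iff_eq hs Nat.prime_two).1 h

/-- the fixed space of an element of order `r_{2m-2}` is an anisotropic plane -/
theorem fx_type (hQ : Nondeg Q) (hP : IsPlus Q) {m r : ℕ} (hm : 5 ≤ m) (hn : finrank F V = 2 * m)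
    (hr : PP (Nat.card F) (2 * m - 2) r) {x : V ≃ₗ[F] V} (hx : x ∈ O Q) (hxr : x ^ r = 1) (hx1 : x ≠ 1) :
    finrank F (fx (x : Module.End F V)) = 2 ∧ ∀ z ∈ fx (x : Module.End F V), Q z = 0 → z = 0 := by
  obtain ⟨h1, h2, -⟩ := block hr (by omega) (by omega) hx hxr hx1
  have h := iso_of hr (by omega) hx hxr
  have hd : finrank F (fx (x : Module.End F V)) = 2 := by omega
  refine ⟨hd, fun z hz hQz => ?_⟩
  have := Fact.mk hr.prime
  have h3 := isPlus_fx_iff h.two_lt hQ (by rw [hn]; exact even_two_mul m) h.iso h.ne0 h.pow (ord_eq hr)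
    (A := 1) ⟨m - 1, by omega⟩ (by rw [mul_one]; exact h2)
  have h4 : ¬ IsPlus (res Q (fx (x : Module.End F V))) := by
    rw [h3]
    intro h5
    exact absurd (h5.1 hP) (by decide)
  by_contra hz0
  apply h4
  refine ⟨F ∙ (⟨z, hz⟩ : fx (x : Module.End F V)), ?_, ?_⟩
  · intro u hu
    obtain ⟨c, rfl⟩ := Submodule.mem_span_singleton.1 hu
    rw [QuadraticMap.map_smul, res_apply, hQz, smul_zero]
  · rw [finrank_span_singleton (fun h0 => hz0 (congrArg Subtype.val h0)), hd]

theorem order_one {r : ℕ} (hr : r.Prime) {x : V ≃ₗ[F] V} (hxr : x ^ r = 1) (hx1 : x ≠ 1) : orderOf x = r ^ 1 := by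
  have := Fact.mk hr
  rw [pow_one]
  exact orderOf_eq_prime hxr hx1

end abs

section tl

variable {ι : Type} [Fintype ι] [DecidableEq ι] {F : Type} [Field F] [Fintype F] {Q : QuadraticForm F (ι → F)}
variable {G : Type u} [Group G] [Finite G] {T : Subgroup G} [T.Normal] {hG : Good Q} {eT : T ≃* POmega F (⇑Q)}
  {hI : Ind ((eP hG eT :))} {X Y : Subgroup G} {p f m : ℕ}

theorem inv0_iffE {W : Submodule F (ι → F)} : Inv0 hI X W ↔ Iv (preE ((eP hG eT :)) X) W := by
  rw [inv0_iff hG]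
  constructor
  · intro h g hg w hw
    have h1 := h (mem_preE_iff'.1 hg)
    have h2 := H884.OmegaGL.mem_subspaceStabilizer.1 h1 w hw
    rwa [MulEquiv.apply_symm_apply] at h2
  · intro h g hg
    exact H884.OmegaGL.mem_subspaceStabilizer.2 fun w hw => h _ (mem_preE_iff.2 hg) w hw

theorem not_E_le (hf : ¬ T ≤ X) : ¬ E Q ≤ preE ((eP hG eT :)) X := by
  intro h
  apply hf
  intro t ht
  obtain ⟨x, hx⟩ := QuotientGroup.mk_surjective (eP hG eT ⟨t, ht⟩)
  have h1 := h x.2
  rw [mem_preE x.2] at h1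
  have h2 : (eP hG eT).symm (QuotientGroup.mk ⟨x.1, x.2⟩) = ⟨t, ht⟩ := by
    change (eP hG eT).symm (QuotientGroup.mk x) = _
    rw [hx, MulEquiv.symm_apply_apply]
  rw [h2] at h1
  exact h1

theorem fixed_of_rd {e r : ℕ} (hr : PP (Nat.card F) e r) (he : 2 ≤ e) (hn : finrank F (ι → F) < 2 * e)
    {x : (ι → F) ≃ₗ[F] (ι → F)} (hx : x ∈ preE ((eP hG eT :)) X) (hxr : x ^ r = 1) (hx1 : x ≠ 1)
    (hred : Rd (preE ((eP hG eT :)) X)) :
    ∃ S : Submodule F (ι → F), S ≠ ⊥ ∧ S ≤ fx (x : Module.End F (ι → F)) ∧ ∀ y ∈ X, act hI y S = S := by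
  obtain ⟨hd, -, -⟩ := block hr he hn (preE_le_O hx) hxr hx1
  refine exists_fixed hG hI (k := e) (fun W hW hWe => ?_) ?_
  · exact le_fx hr he (preE_le_O hx) hxr (fun w hw => inv0_iffE.1 hW x hx w hw) hWe
  · obtain ⟨S, hS0, hS, hSx⟩ := rd_fix hG.nondeg preE_le_O hr he hn hx hxr hx1 hred
    have := Submodule.finrank_mono hSx
    exact ⟨S, inv0_iffE.2 hS, by omega, hS0⟩

theorem fixed_fx {e r : ℕ} (hr : PP (Nat.card F) e r) (he : 2 ≤ e) (hn : finrank F (ι → F) < 2 * e)
    {x : (ι → F) ≃ₗ[F] (ι → F)} (hx : x ∈ preE ((eP hG eT :)) X) (hxr : x ^ r = 1) (hx1 : x ≠ 1)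
    (hinv : Iv (preE ((eP hG eT :)) X) (fx (x : Module.End F (ι → F)))) :
    ∀ y ∈ X, act hI y (fx (x : Module.End F (ι → F))) = fx (x : Module.End F (ι → F)) := by
  obtain ⟨hd, -, -⟩ := block hr he hn (preE_le_O hx) hxr hx1
  intro y hy
  have h1 : Inv0 hI X (act hI y (fx (x : Module.End F (ι → F)))) := (inv0_iffE.2 hinv).act hG hy
  have h2 : act hI y (fx (x : Module.End F (ι → F))) ≤ fx (x : Module.End F (ι → F)) :=
    le_fx hr he (preE_le_O hx) hxr (fun w hw => inv0_iffE.1 h1 x hx w hw) (by rw [finrank_act]; omega)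
  exact Submodule.eq_of_le_of_finrank_eq h2 (finrank_act _ _ _)

/-- **`X` fixes the plane** -/
theorem plane_case (hQ2 : IsPlus Q) (hn : finrank F (ι → F) = 2 * m) (hm : 5 ≤ m) {r2 r4 i j : ℕ}
    (hr2 : PP (Nat.card F) (2 * m - 2) r2) (hr4 : PP (Nat.card F) (2 * m - 4) r4) (hj : 1 ≤ j)
    (h2 : El (preE ((eP hG eT :)) X) (r2 ^ i)) (h4 : El (preE ((eP hG eT :)) X) (r4 ^ j))
    (hL2 : LB F (2 * m - 2) (r2 ^ i) (r4 ^ j))
    {x : (ι → F) ≃ₗ[F] (ι → F)} (hx : x ∈ preE ((eP hG eT :)) X) (hxr : x ^ r2 = 1) (hx1 : x ≠ 1)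
    (hinv : Iv (preE ((eP hG eT :)) X) (fx (x : Module.End F (ι → F)))) : ResP hI X (fx (x : Module.End F (ι → F))) := by
  have hQ : Nondeg Q := hG.nondeg
  have hxO : x ∈ O Q := preE_le_O hx
  obtain ⟨hPd, hPa⟩ := fx_type hQ hQ2 hm hn hr2 hxO hxr hx1
  have hPn : Nondeg (res Q (fx (x : Module.End F (ι → F)))) := nondeg_fx' hQ hr2 (by omega) hxO hxr
  set P := fx (x : Module.End F (ι → F)) with hP
  set U := perp Q P with hU
  have hUn : Nondeg (res Q U) := nondeg_perp hQ hPn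
  have hUd : finrank F U = 2 * m - 2 := by rw [hU, finrank_perp hQ, hn, hPd]
  have hUP : perp Q U = P := by rw [hU, perp_perp hQ]
  have hUi : ∀ a ∈ preE ((eP hG eT :)) X, ∀ w ∈ U, a w ∈ U := iv_perp preE_le_O hinv
  have e2 : El (rstr hUi).range (r2 ^ i) := el_range hr2 (by omega) hUn preE_le_O hUi (by rw [hUP, hPd]; omega) h2
  have e4 : El (rstr hUi).range (r4 ^ j) := el_range hr4 (by omega) hUn preE_le_O hUi (by rw [hUP, hPd]; omega) h4
  have hRO : (rstr hUi).range ≤ O (res Q U) := range_le_O preE_le_O hUi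
  -- the image of `x`
  have hxo := order_rstr hr2 (by omega) hUn preE_le_O hUi (by rw [hUP, hPd]; omega) hx (order_one hr2.prime hxr hx1)
  rw [pow_one] at hxo
  set y : U ≃ₗ[F] U := rstr hUi ⟨x, hx⟩ with hy
  have hyR : y ∈ (rstr hUi).range := ⟨_, rfl⟩
  have hyr : y ^ r2 = 1 := by rw [← hxo, pow_orderOf_eq_one]
  have hy1 : y ≠ 1 := by
    intro h0
    rw [h0, orderOf_one] at hxo
    exact hr2.prime.one_lt.ne hxo
  obtain ⟨hyd, -, -⟩ := block hr2 (by omega) (by rw [hUd]; omega) (hRO hyR) hyr hy1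
  have hnrd : ¬ Rd (rstr hUi).range := by
    intro hrd
    obtain ⟨S, hS0, -, hS⟩ := rd_fix hUn hRO hr2 (by omega) (by rw [hUd]; omega) hyR hyr hy1 hrd
    have h5 := Submodule.finrank_mono hS
    exact hS0 (Submodule.finrank_eq_zero.1 (by omega))
  rcases hL2 hUn hUd (rstr hUi).range hRO e2 e4 with h | ⟨s, hs, hK⟩ | h
  · exact (hnrd h).elim
  · exfalso
    obtain ⟨z, hz, hzr, hz1⟩ := e4.exists_prime hr4.prime hj
    have hzd := H522.Rg.fx_even hr4 (by omega) (by rw [hUd]; omega) hzr hz1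
    have hs2 : s = 2 := by
      refine s_two hs hK hz hr4.prime hzr ?_ (by omega)
      rintro rfl
      have h5 := hK.dvd_finrank
      rw [hUd] at h5
      have h6 := hr4.lt (by omega)
      obtain ⟨c, hc⟩ := h5
      have h7 : c < 2 := by
        by_contra hcon
        push Not at hcon
        have := Nat.mul_le_mul_left r4 hcon
        omega
      have h8 : c = 1 := by
        rcases (by omega : c = 0 ∨ c = 1) with rfl | rfl
        · omega
        · rfl
      rw [h8, mul_one] at hc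
      have h9 := hr4.odd (by omega)
      obtain ⟨d, hd⟩ := h9
      omega
    subst hs2
    refine not_two' hUn (fun h hh u v => polar_O (hRO hh) u v) hm (by rw [hUd]; omega) hr2 hr4 ?_ ?_ hnrd hK
    · have h5 : El (rstr hUi).range r2 := ⟨y, hyR, hxo⟩
      exact h5.dvd
    · exact e4.prime_dvd hj
  · refine ⟨hPd, hPa, fixed_fx hr2 (by omega) (by omega) hx hxr hx1 hinv, fun u w hu hw huU hwU => ?_⟩
    rw [← mem_preE_iff' (hG := hG)]
    exact H111.Rg.lift_plane hQ hPn (by omega) (by omega) preE_le_O (fun a ha z hz => hinv a ha z hz)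
      (lift_E hUi h) hu hw huU hwU

/-- **`X` fixes a nonsingular point, `q` odd** -/
theorem line_odd (hQ2 : IsPlus Q) (hn : finrank F (ι → F) = 2 * m) (hm : 5 ≤ m) {r2 r4 i j : ℕ}
    (hr2 : PP (Nat.card F) (2 * m - 2) r2) (hr4 : PP (Nat.card F) (2 * m - 4) r4) (hj : 1 ≤ j)
    (h2 : El (preE ((eP hG eT :)) X) (r2 ^ i)) (h4 : El (preE ((eP hG eT :)) X) (r4 ^ j))
    (h2F : (2 : F) ≠ 0) (hL1 : LB F (2 * m - 1) (r2 ^ i) (r4 ^ j))
    {x : (ι → F) ≃ₗ[F] (ι → F)} (hx : x ∈ preE ((eP hG eT :)) X) (hxr : x ^ r2 = 1) (hx1 : x ≠ 1)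
    {v : ι → F} (hv : v ∈ fx (x : Module.End F (ι → F))) (hv0 : v ≠ 0) (hvX : ∀ y ∈ X, act hI y (F ∙ v) = F ∙ v) :
    ResV hI X v ∨ Iv (preE ((eP hG eT :)) X) (fx (x : Module.End F (ι → F))) := by
  have hQ : Nondeg Q := hG.nondeg
  have hxO : x ∈ O Q := preE_le_O hx
  obtain ⟨hPd, hPa⟩ := fx_type hQ hQ2 hm hn hr2 hxO hxr hx1
  have hQv : Q v ≠ 0 := fun h0 => hv0 (hPa v hv h0)
  have hLn : Nondeg (res Q (F ∙ v)) := nondeg_line' h2F hQv
  have hLi : Iv (preE ((eP hG eT :)) X) (F ∙ v) := inv0_iffE.1 fun t ht => hvX _ ht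
  set U := perp Q (F ∙ v) with hU
  have hUn : Nondeg (res Q U) := nondeg_perp hQ hLn
  have hUd : finrank F U = 2 * m - 1 := by rw [hU, finrank_perp hQ, hn, finrank_span_singleton hv0]
  have hUP : perp Q U = F ∙ v := by rw [hU, perp_perp hQ]
  have hUPd : finrank F (perp Q U) = 1 := by rw [hUP, finrank_span_singleton hv0]
  have hUi : ∀ a ∈ preE ((eP hG eT :)) X, ∀ w ∈ U, a w ∈ U := iv_perp preE_le_O hLi
  have e2 : El (rstr hUi).range (r2 ^ i) := el_range hr2 (by omega) hUn preE_le_O hUi (by rw [hUPd]; omega) h2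
  have e4 : El (rstr hUi).range (r4 ^ j) := el_range hr4 (by omega) hUn preE_le_O hUi (by rw [hUPd]; omega) h4
  have hRO : (rstr hUi).range ≤ O (res Q U) := range_le_O preE_le_O hUi
  have hxo := order_rstr hr2 (by omega) hUn preE_le_O hUi (by rw [hUPd]; omega) hx (order_one hr2.prime hxr hx1)
  rw [pow_one] at hxo
  set y : U ≃ₗ[F] U := rstr hUi ⟨x, hx⟩ with hy
  have hyR : y ∈ (rstr hUi).range := ⟨_, rfl⟩
  have hyr : y ^ r2 = 1 := by rw [← hxo, pow_orderOf_eq_one]
  have hy1 : y ≠ 1 := by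
    intro h0
    rw [h0, orderOf_one] at hxo
    exact hr2.prime.one_lt.ne hxo
  obtain ⟨hyd, -, -⟩ := block hr2 (by omega) (by rw [hUd]; omega) (hRO hyR) hyr hy1
  rcases hL1 hUn hUd (rstr hUi).range hRO e2 e4 with h | ⟨s, hs, hK⟩ | h
  · right
    obtain ⟨S, hS0, hSi, hS⟩ := rd_fix hUn hRO hr2 (by omega) (by rw [hUd]; omega) hyR hyr hy1 h
    -- the plane
    have hSd : 1 ≤ finrank F S := by
      by_contra hcon
      exact hS0 (Submodule.finrank_eq_zero.1 (by omega))
    have hSm : finrank F (S.map U.subtype) = finrank F S := (LinearEquiv.finrank_eq (Submodule.equivMapOfInjective U.subtype U.subtype_injective S)).symm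
    have hdisj : (F ∙ v) ⊓ S.map U.subtype = ⊥ := by
      rw [eq_bot_iff, ← (isCompl_perp hLn).inf_eq_bot]
      rintro z ⟨hz1, w, hw, rfl⟩
      exact ⟨hz1, w.2⟩
    have hle : (F ∙ v) ⊔ S.map U.subtype ≤ fx (x : Module.End F (ι → F)) := by
      refine sup_le ((Submodule.span_singleton_le_iff_mem _ _).2 hv) ?_
      rintro _ ⟨w, hw, rfl⟩
      have h5 : y w = w := H951.mem_fx.1 (hS hw)
      refine H951.mem_fx.2 ?_
      have h6 := congrArg Subtype.val h5
      exact h6
    have heq : (F ∙ v) ⊔ S.map U.subtype = fx (x : Module.End F (ι → F)) := by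
      apply Submodule.eq_of_le_of_finrank_le hle
      have h5 := Submodule.finrank_sup_add_finrank_inf_eq (F ∙ v) (S.map U.subtype)
      rw [hdisj, finrank_bot, hSm, finrank_span_singleton hv0] at h5
      omega
    rw [← heq]
    intro a ha w hw
    obtain ⟨b, hb, c, ⟨d, hd, rfl⟩, rfl⟩ := Submodule.mem_sup.1 hw
    rw [map_add]
    refine Submodule.add_mem _ (Submodule.mem_sup_left (hLi a ha b hb)) (Submodule.mem_sup_right ?_)
    exact ⟨rstr hUi ⟨a, ha⟩ d, hSi _ ⟨_, rfl⟩ d hd, rfl⟩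
  · exfalso
    obtain ⟨z, hz, hzr, hz1⟩ := e4.exists_prime hr4.prime hj
    have hzd := H522.Rg.fx_even hr4 (by omega) (by rw [hUd]; omega) hzr hz1
    have hlt2 := hr2.lt (by omega)
    have hlt4 := hr4.lt (by omega)
    by_cases hrs : r2 = s
    · have h5 := hK.dvd_fx hz hr4.prime hzr (by
        rw [← hrs]
        exact hr4.ne_of_ne hr2 (by omega))
      have h6 : finrank F (fx (z : Module.End F U)) = 3 := by omega
      rw [h6] at h5
      have := Nat.le_of_dvd (by norm_num) h5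
      omega
    · have h5 := hK.dvd_fx hyR hr2.prime hyr hrs
      have h6 : finrank F (fx (y : Module.End F U)) = 1 := by (clear * - hm hUd hyd; omega)
      rw [h6] at h5
      exact hs.one_lt.ne' (Nat.dvd_one.1 h5)
  · left
    refine ⟨hQv, hvX, fun u w hu hw huv hwv => ?_⟩
    rw [← mem_preE_iff' (hG := hG)]
    have hmem : ∀ {z : ι → F}, polar Q z v = 0 → z ∈ U := by
      intro z hz b hb
      obtain ⟨c, rfl⟩ := Submodule.mem_span_singleton.1 hb
      rw [polar_smul_left, polar_comm, hz, smul_zero]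
    exact H111.Rg.lift_plane hQ hLn (by rw [finrank_span_singleton hv0]; omega) (by omega) preE_le_O
      (fun a ha z hz => hLi a ha z hz) (lift_E hUi h) hu hw (hmem huv) (hmem hwv)

end tl

end Cfsg.Agent.H826.RgF
end
end
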